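import Mathlib

/-!
# The degrees of the block of `T₁₂` in `³D₄(q)`, case `p ∤ d` (S2452; helper190)
-/

set_option autoImplicit false

namespace Cfsg.Agent.H190.TC.CaseA

/-- an odd integer dividing `2 x` or `4 x` -/
theorem dvd_of_odd {N x : ℤ} {u : ℤ} (hu : N = 2 * u + 1) (h : N ∣ 4 * x) : N ∣ x := by
  have h1 : IsCoprime N 4 := by
    refine ⟨2 * u + 1, -(u * (u + 1)), ?_⟩
    rw [hu]
    ring
  exact h1.dvd_of_dvd_mul_left h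

/-- the last inequality -/
theorem final {Q N t s : ℤ} (hQ : 4 ≤ Q) (hN : N = Q ^ 4 - Q ^ 2 + 1) (ht : 3 * Q ≤ |t|) (hs : Q ^ 3 ≤ 2 * |s|)
    (h : (4 + N * t) * (1 + N * s) = (Q ^ 6 - 1) ^ 2) : False := by
  have hN0 : 0 < N := by rw [hN]; nlinarith [sq_nonneg (Q ^ 2 - 1), sq_nonneg Q]
  have h1 : 3 * Q * N - 4 ≤ |4 + N * t| := by
    have h2 : |N * t| ≤ |4 + N * t| + |(4 : ℤ)| := by
      have := abs_sub (4 + N * t) 4
      rwa [add_sub_cancel_left] at this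
    rw [abs_mul, abs_of_pos hN0] at h2
    have h3 : |(4 : ℤ)| = 4 := rfl
    nlinarith
  have h4 : Q ^ 3 * N - 2 ≤ 2 * |1 + N * s| := by
    have h2 : |N * s| ≤ |1 + N * s| + |(1 : ℤ)| := by
      have := abs_sub (1 + N * s) 1
      rwa [add_sub_cancel_left] at this
    rw [abs_mul, abs_of_pos hN0] at h2
    have h3 : |(1 : ℤ)| = 1 := rfl
    nlinarith
  have h5 : |4 + N * t| * |1 + N * s| = (Q ^ 6 - 1) ^ 2 := by
    rw [← abs_mul, h, abs_of_nonneg (sq_nonneg _)]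
  have h6 : 0 ≤ Q ^ 3 * N - 2 := by
    have h7 : 64 ≤ Q ^ 3 := by nlinarith [sq_nonneg (Q - 4), sq_nonneg Q]
    nlinarith
  have h8 : (3 * Q * N - 4) * (Q ^ 3 * N - 2) ≤ 2 * (Q ^ 6 - 1) ^ 2 := by
    calc (3 * Q * N - 4) * (Q ^ 3 * N - 2) ≤ |4 + N * t| * (2 * |1 + N * s|) :=
          mul_le_mul h1 h4 h6 (abs_nonneg _)
      _ = 2 * (|4 + N * t| * |1 + N * s|) := by ring
      _ = _ := by rw [h5]
  obtain ⟨y, hy, rfl⟩ : ∃ y : ℤ, 0 ≤ y ∧ Q = y + 4 := ⟨Q - 4, by omega, by ring⟩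
  rw [hN] at h8
  have h9 : 0 < (3 * (y + 4) * ((y + 4) ^ 4 - (y + 4) ^ 2 + 1) - 4) * ((y + 4) ^ 3 * ((y + 4) ^ 4 - (y + 4) ^ 2 + 1) - 2) -
      2 * ((y + 4) ^ 6 - 1) ^ 2 := by
    ring_nf
    positivity
  linarith

/-- the size of `t` -/
theorem size_t {p a q : ℕ} (hp : p.Prime) (hq : q = p ^ a) (h4 : 4 ≤ q) {t w : ℤ}
    (h : 2 * t = -6 * (1 + (q : ℤ) ^ 2) + (q : ℤ) ^ 3 * w) : 3 * (q : ℤ) ≤ |t| := by
  have key : ∀ {r : ℕ}, r.Prime → r ∣ q → p = r := fun {r} hr hd => by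
    rw [hq] at hd
    exact ((Nat.prime_dvd_prime_iff_eq hr hp).1 (hr.dvd_of_dvd_pow hd)).symm
  by_cases h13 : q < 13
  · rw [le_abs]
    interval_cases q
    · norm_num at h; omega
    · norm_num at h; omega
    · exfalso
      have h1 := key Nat.prime_two (by norm_num)
      have h2 := key Nat.prime_three (by norm_num)
      omega
    · norm_num at h; omega
    · norm_num at h; omega
    · norm_num at h; omega
    · exfalso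
      have h1 := key Nat.prime_two (by norm_num)
      have h2 := key Nat.prime_five (by norm_num)
      omega
    · norm_num at h; omega
    · exfalso
      have h1 := key Nat.prime_two (by norm_num)
      have h2 := key Nat.prime_three (by norm_num)
      omega
  · rw [not_lt] at h13
    have hQ : (13 : ℤ) ≤ q := by exact_mod_cast h13
    generalize (q : ℤ) = Q at *
    rw [le_abs]
    rcases lt_trichotomy w 0 with hw | hw | hw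
    · right
      have h1 : Q ^ 3 * w ≤ -Q ^ 3 := by nlinarith [pow_pos (show (0 : ℤ) < Q by omega) 3]
      nlinarith [pow_pos (show (0 : ℤ) < Q by omega) 3]
    · right
      rw [hw] at h
      nlinarith
    · left
      have h1 : Q ^ 3 ≤ Q ^ 3 * w := by nlinarith [pow_pos (show (0 : ℤ) < Q by omega) 3]
      have h2 : 13 * Q ^ 2 ≤ Q ^ 3 := by nlinarith [sq_nonneg Q]
      nlinarith

theorem case_a {p a q N b d e3 : ℕ} (hp : p.Prime) (ha : 0 < a) (hq : q = p ^ a) (h4 : 4 ≤ q)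
    (hN : N + q ^ 2 = q ^ 4 + 1) (h3 : 2 * e3 = q ^ 3 * (q ^ 3 + 1) ^ 2) {f ε : ℤ} (hf : f = 1 ∨ f = -1)
    (hε : ε = 1 ∨ ε = -1) (hb : b ∣ q ^ 12 * (q ^ 6 - 1) ^ 2) (hd : d ∣ q ^ 12 * (q ^ 6 - 1) ^ 2)
    (hbN : (N : ℤ) ∣ b - f) (h : (1 : ℤ) + (q ^ 12 : ℕ) - e3 + f * b = ε * d) (hpd : ¬ p ∣ d) :
    2 * b = q ^ 3 * (q ^ 3 - 1) ^ 2 ∧ d = (q ^ 6 - 1) ^ 2 := by
  have hεε : ε * ε = 1 := by rcases hε with rfl | rfl <;> norm_num
  have hff : f * f = 1 := by rcases hf with rfl | rfl <;> norm_num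
  have hq0 : 0 < q := by omega
  -- `d` divides `(q⁶ - 1)²`
  have hcop : Nat.Coprime d (q ^ 12) := by
    rw [hq]
    exact (((Nat.Prime.coprime_iff_not_dvd hp).2 hpd).symm.pow_right a).pow_right 12
  have hd1 : d ∣ (q ^ 6 - 1) ^ 2 := hcop.dvd_of_dvd_mul_left hd
  obtain ⟨m, hm⟩ := hd1
  have h6 : 1 ≤ q ^ 6 := Nat.one_le_pow _ _ hq0
  have h33 : 1 ≤ q ^ 3 := Nat.one_le_pow _ _ hq0
  have hQ : (4 : ℤ) ≤ q := by exact_mod_cast h4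
  have hmZ : ((q : ℤ) ^ 6 - 1) ^ 2 = d * m := by
    have : (((q ^ 6 - 1) ^ 2 : ℕ) : ℤ) = ((d * m : ℕ) : ℤ) := by rw [hm]
    rw [Nat.cast_pow, Nat.cast_sub h6] at this
    push_cast at this
    exact this
  have hNZ : (N : ℤ) = (q : ℤ) ^ 4 - q ^ 2 + 1 := by
    have : ((N + q ^ 2 : ℕ) : ℤ) = ((q ^ 4 + 1 : ℕ) : ℤ) := by rw [hN]
    push_cast at this
    linarith
  have h3Z : 2 * (e3 : ℤ) = (q : ℤ) ^ 3 * ((q : ℤ) ^ 3 + 1) ^ 2 := by exact_mod_cast h3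
  push_cast at h
  -- `N` is odd
  obtain ⟨u, hu⟩ : ∃ u : ℤ, (N : ℤ) = 2 * u + 1 := by
    obtain ⟨v, hv⟩ : Even ((q : ℤ) * (q - 1)) := Int.even_mul_pred_self _
    refine ⟨v * (q * (q + 1)), ?_⟩
    rw [hNZ]
    have : (q : ℤ) ^ 4 - q ^ 2 = (q * (q - 1)) * (q * (q + 1)) := by ring
    rw [this, hv]
    ring
  -- the congruences
  obtain ⟨k', hk'⟩ := hbN
  obtain ⟨t, ht⟩ : (N : ℤ) ∣ ε * d - 4 := by
    refine dvd_of_odd hu ⟨2 * (((q : ℤ) ^ 2 + 1) * (2 * q ^ 6 - q ^ 3 - 4) + 2 * f * k'), ?_⟩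
    have hb' : (b : ℤ) = f + N * k' := by linarith
    have h1 : 2 * (ε * d - 4) = 2 + 2 * (q : ℤ) ^ 12 - 2 * e3 + 2 * f * b - 8 := by linarith
    have h2 : f * (b : ℤ) = 1 + N * (f * k') := by rw [hb']; linear_combination hff
    have h5 : 4 * (ε * d - 4) = 2 * (2 + 2 * (q : ℤ) ^ 12 - (q : ℤ) ^ 3 * ((q : ℤ) ^ 3 + 1) ^ 2 +
        2 * (1 + N * (f * k')) - 8) := by
      rw [← h3Z, ← h2]
      linarith
    rw [h5, hNZ]
    ring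
  obtain ⟨s, hs⟩ : (N : ℤ) ∣ ε * m - 1 := by
    refine dvd_of_odd hu ?_
    have h1 : (ε * d) * (ε * m) = ((q : ℤ) ^ 6 - 1) ^ 2 := by
      rw [hmZ]
      linear_combination ((d : ℤ) * m) * hεε
    have h2 : ε * (d : ℤ) = 4 + N * t := by linarith
    rw [h2] at h1
    refine ⟨((q : ℤ) ^ 2 + 1) * ((q : ℤ) ^ 6 - 3) - t * (ε * m), ?_⟩
    have h5 : ((q : ℤ) ^ 6 - 1) ^ 2 = 4 + N * (((q : ℤ) ^ 2 + 1) * ((q : ℤ) ^ 6 - 3)) := by
      rw [hNZ]; ring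
    rw [h5] at h1
    linear_combination h1
  have ht' : ε * (d : ℤ) = 4 + N * t := by linarith
  have hs' : ε * (m : ℤ) = 1 + N * s := by linarith
  have hprod : (4 + N * t) * (1 + N * s) = ((q : ℤ) ^ 6 - 1) ^ 2 := by
    rw [← ht', ← hs', hmZ]
    linear_combination ((d : ℤ) * m) * hεε
  have hN0 : 240 ≤ (N : ℤ) := by
    rw [hNZ]
    nlinarith [sq_nonneg ((q : ℤ) ^ 2 - 16), sq_nonneg ((q : ℤ) - 4)]
  by_cases hs0 : s = 0
  · -- the true solution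
    rw [hs0, mul_zero, add_zero] at hs'
    have hε1 : ε = 1 := by
      rcases hε with h1 | h1
      · exact h1
      · rw [h1] at hs'
        have : (0 : ℤ) ≤ m := Int.natCast_nonneg _
        linarith
    rw [hε1, one_mul] at hs'
    rw [hs', mul_one] at hmZ
    rw [hε1, one_mul, ← hmZ] at h
    have h2 : 2 * (f * b) = (q : ℤ) ^ 3 * ((q : ℤ) ^ 3 - 1) ^ 2 := by
      linear_combination 2 * h + h3Z
    have h64 : (64 : ℤ) ≤ (q : ℤ) ^ 3 := by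
      have := pow_le_pow_left₀ (by norm_num : (0 : ℤ) ≤ 4) hQ 3
      linarith
    have hf1 : f = 1 := by
      rcases hf with h1 | h1
      · exact h1
      · exfalso
        rw [h1] at h2
        have h5 : (0 : ℤ) ≤ b := Int.natCast_nonneg _
        have h7 : (0 : ℤ) < (q : ℤ) ^ 3 * ((q : ℤ) ^ 3 - 1) ^ 2 := by
          have : (0 : ℤ) < (q : ℤ) ^ 3 - 1 := by linarith
          positivity
        linarith
    rw [hf1, one_mul] at h2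
    constructor
    · have : ((2 * b : ℕ) : ℤ) = ((q ^ 3 * (q ^ 3 - 1) ^ 2 : ℕ) : ℤ) := by
        rw [Nat.cast_mul (q ^ 3), Nat.cast_pow (q ^ 3 - 1), Nat.cast_sub h33]
        push_cast
        exact h2
      exact_mod_cast this
    · have : ((d : ℕ) : ℤ) = (((q ^ 6 - 1) ^ 2 : ℕ) : ℤ) := by
        rw [Nat.cast_pow, Nat.cast_sub h6]
        push_cast
        exact hmZ.symm
      exact_mod_cast this
  exfalso
  -- the size of `d`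
  have hm0 : (0 : ℤ) ≤ m := Int.natCast_nonneg _
  have hd0 : (0 : ℤ) ≤ d := Int.natCast_nonneg _
  have hmN : (N : ℤ) - 1 ≤ m := by
    have h1 : (N : ℤ) ≤ |N * s| := by
      rw [abs_mul, abs_of_pos (by linarith : (0 : ℤ) < N)]
      have : 1 ≤ |s| := Int.one_le_abs hs0
      nlinarith
    have h2 : |(N : ℤ) * s| ≤ m + 1 := by
      have h5 : (N : ℤ) * s = ε * m - 1 := by linarith
      rw [h5]
      rcases hε with h7 | h7 <;> rw [h7] <;> rw [abs_le] <;> constructor <;> linarith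
    linarith
  have hdq : 15 * (d : ℤ) ≤ 16 * (q : ℤ) ^ 8 := by
    have h1 : (d : ℤ) * (N - 1) ≤ (q : ℤ) ^ 12 := by
      have h2 : (d : ℤ) * (N - 1) ≤ d * m := mul_le_mul_of_nonneg_left hmN hd0
      rw [← hmZ] at h2
      have h5 : (1 : ℤ) ≤ (q : ℤ) ^ 6 := by exact_mod_cast h6
      nlinarith
    have h2 : 15 * (q : ℤ) ^ 4 ≤ 16 * (N - 1) := by
      rw [hNZ]
      nlinarith [sq_nonneg (q : ℤ), mul_self_nonneg ((q : ℤ) ^ 2)]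
    have h5 : 15 * (d : ℤ) * (q : ℤ) ^ 4 ≤ 16 * (q : ℤ) ^ 8 * (q : ℤ) ^ 4 := by
      calc 15 * (d : ℤ) * (q : ℤ) ^ 4 = (d : ℤ) * (15 * (q : ℤ) ^ 4) := by ring
        _ ≤ (d : ℤ) * (16 * ((N : ℤ) - 1)) := mul_le_mul_of_nonneg_left h2 hd0
        _ = 16 * ((d : ℤ) * ((N : ℤ) - 1)) := by ring
        _ ≤ 16 * (q : ℤ) ^ 12 := by linarith
        _ = _ := by ring
    exact le_of_mul_le_mul_right h5 (by positivity)
  have hεd : ε * (d : ℤ) ≤ d ∧ -(d : ℤ) ≤ ε * d := by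
    rcases hε with h7 | h7 <;> rw [h7] <;> constructor <;> linarith
  -- the sizes of the powers
  have q8 : 4 * (q : ℤ) ^ 8 ≤ (q : ℤ) ^ 9 := by
    have : (q : ℤ) ^ 9 = (q : ℤ) ^ 8 * q := by ring
    rw [this]
    nlinarith [pow_pos (by linarith : (0 : ℤ) < q) 8]
  have q9 : 4 * (q : ℤ) ^ 11 ≤ (q : ℤ) ^ 12 := by
    have : (q : ℤ) ^ 12 = (q : ℤ) ^ 11 * q := by ring
    rw [this]
    nlinarith [pow_pos (by linarith : (0 : ℤ) < q) 11]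
  have q11 : 16 * (q : ℤ) ^ 9 ≤ (q : ℤ) ^ 11 := by
    have : (q : ℤ) ^ 11 = (q : ℤ) ^ 9 * (q * q) := by ring
    rw [this]
    nlinarith [pow_pos (by linarith : (0 : ℤ) < q) 9]
  have q6 : 16 * (q : ℤ) ^ 6 ≤ (q : ℤ) ^ 8 := by
    have : (q : ℤ) ^ 8 = (q : ℤ) ^ 6 * (q * q) := by ring
    rw [this]
    nlinarith [pow_pos (by linarith : (0 : ℤ) < q) 6]
  have q3 : 64 * (q : ℤ) ^ 3 ≤ (q : ℤ) ^ 6 := by
    have : (q : ℤ) ^ 6 = (q : ℤ) ^ 3 * (q * (q * q)) := by ring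
    rw [this]
    have h16 : (16 : ℤ) ≤ q * q := by nlinarith
    have h64 : (64 : ℤ) ≤ q * (q * q) := by nlinarith
    nlinarith [pow_pos (by linarith : (0 : ℤ) < q) 3]
  have p3 : (0 : ℤ) < (q : ℤ) ^ 3 := pow_pos (by linarith) 3
  -- the sign `f`
  have h2 : 2 * (f * (b : ℤ)) = 2 * (ε * d) - (2 * (q : ℤ) ^ 12 + 2 - (q : ℤ) ^ 3 * ((q : ℤ) ^ 3 + 1) ^ 2) := by
    linear_combination 2 * h + h3Z
  have h3e : (q : ℤ) ^ 3 * ((q : ℤ) ^ 3 + 1) ^ 2 = (q : ℤ) ^ 9 + 2 * (q : ℤ) ^ 6 + (q : ℤ) ^ 3 := by ring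
  have hf1 : f = -1 := by
    rcases hf with h1 | h1
    · exfalso
      rw [h1, h3e] at h2
      have hb0 : (0 : ℤ) ≤ b := Int.natCast_nonneg _
      linarith [hεd.1]
    · exact h1
  rw [hf1, h3e] at h2
  have hbZ : 2 * (b : ℤ) = 2 * (q : ℤ) ^ 12 + 2 - (q : ℤ) ^ 9 - 2 * (q : ℤ) ^ 6 - (q : ℤ) ^ 3 - 2 * (ε * d) := by
    linarith
  have hb0 : 0 < (b : ℤ) := by linarith [hεd.1]
  -- the `p`-part of `b`
  obtain ⟨j, b', hpb', hbj⟩ := Nat.exists_eq_pow_mul_and_not_dvd (n := b) (by exact_mod_cast hb0.ne') p hp.ne_one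
  have hb'1 : b' ∣ (q ^ 6 - 1) ^ 2 := by
    have h1 : b' ∣ q ^ 12 * (q ^ 6 - 1) ^ 2 := (Dvd.intro_left _ hbj.symm).trans hb
    refine Nat.Coprime.dvd_of_dvd_mul_left ?_ h1
    rw [hq]
    exact (((Nat.Prime.coprime_iff_not_dvd hp).2 hpb').symm.pow_right a).pow_right 12
  obtain ⟨k, hk⟩ := hb'1
  have hkZ : ((q : ℤ) ^ 6 - 1) ^ 2 = b' * k := by
    have : (((q ^ 6 - 1) ^ 2 : ℕ) : ℤ) = ((b' * k : ℕ) : ℤ) := by rw [hk]
    rw [Nat.cast_pow, Nat.cast_sub h6] at this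
    push_cast at this
    exact this
  have hkb : (k : ℤ) * b = (p ^ j : ℕ) * ((q : ℤ) ^ 6 - 1) ^ 2 := by
    rw [hkZ, hbj]
    push_cast
    ring
  have hR : (q : ℤ) ^ 3 < (p ^ j : ℕ) := by
    by_contra hcon
    rw [not_lt] at hcon
    have hR0 : (0 : ℤ) < (p ^ j : ℕ) := by exact_mod_cast pow_pos hp.pos j
    generalize ((p ^ j : ℕ) : ℤ) = R at hcon hkb hR0
    have hexp : ((q : ℤ) ^ 6 - 1) ^ 2 = (q : ℤ) ^ 12 - 2 * (q : ℤ) ^ 6 + 1 := by ring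
    rw [hexp] at hkb
    have hlt : (b : ℤ) < (q : ℤ) ^ 12 - 2 * (q : ℤ) ^ 6 + 1 := by linarith [hεd.2]
    have hkR : R + 1 ≤ (k : ℤ) := by
      by_contra hc
      have h1 : (k : ℤ) ≤ R := by omega
      have h5 : (k : ℤ) * b ≤ R * b := mul_le_mul_of_nonneg_right h1 hb0.le
      have h7 : R * b < R * ((q : ℤ) ^ 12 - 2 * (q : ℤ) ^ 6 + 1) := mul_lt_mul_of_pos_left hlt hR0
      linarith
    have h5 : (R + 1) * b ≤ (k : ℤ) * b := mul_le_mul_of_nonneg_right hkR hb0.le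
    rw [hkb] at h5
    -- `b ≤ R (B₀ - b)`
    have h7 : 2 * (b : ℤ) ≤ R * (2 * ((q : ℤ) ^ 12 - 2 * (q : ℤ) ^ 6 + 1) - 2 * b) := by linarith
    have h8 : 2 * ((q : ℤ) ^ 12 - 2 * (q : ℤ) ^ 6 + 1) - 2 * (b : ℤ) ≤ (q : ℤ) ^ 9 + 3 * (q : ℤ) ^ 8 := by
      linarith [hεd.1]
    have h9 : R * (2 * ((q : ℤ) ^ 12 - 2 * (q : ℤ) ^ 6 + 1) - 2 * b) ≤
        (q : ℤ) ^ 3 * ((q : ℤ) ^ 9 + 3 * (q : ℤ) ^ 8) := by
      refine mul_le_mul hcon h8 ?_ p3.le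
      linarith
    have h10 : (q : ℤ) ^ 3 * ((q : ℤ) ^ 9 + 3 * (q : ℤ) ^ 8) = (q : ℤ) ^ 12 + 3 * (q : ℤ) ^ 11 := by ring
    linarith [hεd.1]
  have hq3 : q ^ 3 ∣ b := by
    have h1 : p ^ (a * 3) < p ^ j := by
      rw [pow_mul, ← hq]
      exact_mod_cast hR
    have h5 : a * 3 ≤ j := ((Nat.pow_lt_pow_iff_right hp.one_lt).1 h1).le
    rw [hbj, hq, ← pow_mul]
    exact Dvd.dvd.mul_right (pow_dvd_pow p h5) b'
  obtain ⟨c, hc⟩ := hq3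
  have hcZ : (b : ℤ) = (q : ℤ) ^ 3 * c := by rw [hc]; push_cast; ring
  -- `2 ε d = 2 + q³ v`
  obtain ⟨v, hv⟩ : ∃ v : ℤ, 2 * (ε * (d : ℤ)) = 2 + (q : ℤ) ^ 3 * v :=
    ⟨2 * (q : ℤ) ^ 9 - (q : ℤ) ^ 6 - 2 * (q : ℤ) ^ 3 - 1 - 2 * c, by rw [hcZ] at hbZ; linear_combination hbZ⟩
  have hNq : (N : ℤ) * (1 + (q : ℤ) ^ 2) = (q : ℤ) ^ 6 + 1 := by rw [hNZ]; ring
  -- `t`
  have htt : 2 * t = -6 * (1 + (q : ℤ) ^ 2) + (q : ℤ) ^ 3 * (v * (1 + (q : ℤ) ^ 2) - 2 * t * (q : ℤ) ^ 3) := by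
    have h1 : 2 * ((N : ℤ) * t) = -6 + (q : ℤ) ^ 3 * v := by rw [ht'] at hv; linarith
    linear_combination (1 + (q : ℤ) ^ 2) * h1 - 2 * t * hNq
  have hss : 2 * s = (q : ℤ) ^ 3 * ((2 * (q : ℤ) ^ 9 - 4 * (q : ℤ) ^ 3 - v * (ε * m)) * (1 + (q : ℤ) ^ 2) -
      2 * s * (q : ℤ) ^ 3) := by
    have h1 : (2 + (q : ℤ) ^ 3 * v) * (ε * m) = 2 * ((q : ℤ) ^ 6 - 1) ^ 2 := by
      rw [← hv, hmZ]
      linear_combination (2 * (d : ℤ) * m) * hεε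
    have h5 : 2 * ((N : ℤ) * s) = (q : ℤ) ^ 3 * (2 * (q : ℤ) ^ 9 - 4 * (q : ℤ) ^ 3 - v * (ε * m)) := by
      linear_combination h1 - 2 * hs'
    linear_combination (1 + (q : ℤ) ^ 2) * h5 - 2 * s * hNq
  have hs3 : (q : ℤ) ^ 3 ≤ 2 * |s| := by
    have h1 : (q : ℤ) ^ 3 ∣ 2 * s := Dvd.intro _ hss.symm
    have h5 : 2 * s ≠ 0 := mul_ne_zero two_ne_zero hs0
    have h7 := Int.le_of_dvd (abs_pos.2 h5) ((dvd_abs _ _).2 h1)
    rwa [abs_mul, show |(2 : ℤ)| = 2 from rfl] at h7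
  exact final hQ hNZ (size_t hp hq h4 htt) hs3 hprod

end Cfsg.Agent.H190.TC.CaseA
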