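import Mathlib

/-!
# `³D₄(5)` and `³D₄(17)`: the arithmetic (S2464; helper190)
-/

set_option autoImplicit false

namespace Cfsg.Agent.H190.TC.TDQ

/-- divisibility conditions on `θ` -/
def bad (idx P A C TH t dd a0 a1 c0 c1 : ℤ) (k θ : ℤ) : Bool :=
  θ % dd == 0 && ((idx * k * (a0 + a1 * (θ / dd))) % A == 0 && ((idx * k * (c0 + c1 * (θ / dd))) % C == 0 &&
    decide (k * (1 + (a0 + a1 * (θ / dd)) ^ 2 + (c0 + c1 * (θ / dd)) ^ 2 + t * θ ^ 2) ≤ P)))

/-- the check at `k` -/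
def ok (idx P A C TH t dd : ℕ) (a0 a1 c0 c1 : ℤ) (M k : ℕ) : Bool :=
  !(P % k == 0) || (decide (P < (M + 1) ^ 2 * (TH / Nat.gcd TH (idx * k)) ^ 2 * t * k) &&
    (List.range (2 * M + 1)).all fun i => !(bad idx P A C TH t dd a0 a1 c0 c1 k (((TH / Nat.gcd TH (idx * k) : ℕ) : ℤ) * ((i : ℤ) - M))))

/-- from the central character -/
theorem dvd_of (TH K : ℕ) (hK : 0 < K) (θ : ℤ) (h : (TH : ℤ) ∣ K * θ) :
    ((TH / Nat.gcd TH K : ℕ) : ℤ) ∣ θ := by
  have hg : 0 < Nat.gcd TH K := Nat.gcd_pos_of_pos_right _ hK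
  have h1 : Nat.Coprime (TH / Nat.gcd TH K) (K / Nat.gcd TH K) := Nat.coprime_div_gcd_div_gcd hg
  have h2 : Int.gcd ((TH / Nat.gcd TH K : ℕ) : ℤ) ((K / Nat.gcd TH K : ℕ) : ℤ) = 1 := by
    rw [Int.gcd_natCast_natCast]
    exact h1
  refine Int.dvd_of_dvd_mul_right_of_gcd_one ?_ h2
  obtain ⟨m, hm⟩ := h
  refine ⟨m, ?_⟩
  have h3 : ((Nat.gcd TH K : ℕ) : ℤ) ≠ 0 := by exact_mod_cast hg.ne'
  refine mul_left_cancel₀ h3 ?_
  have h4 : ((Nat.gcd TH K : ℕ) : ℤ) * ((TH / Nat.gcd TH K : ℕ) : ℤ) = TH := by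
    exact_mod_cast Nat.mul_div_cancel' (Nat.gcd_dvd_left TH K)
  have h5 : ((Nat.gcd TH K : ℕ) : ℤ) * ((K / Nat.gcd TH K : ℕ) : ℤ) = K := by
    exact_mod_cast Nat.mul_div_cancel' (Nat.gcd_dvd_right TH K)
  rw [← mul_assoc, h5, ← mul_assoc, h4, hm]

/-- the search -/
theorem no_sol_gen (idx P A C TH t dd : ℕ) (a0 a1 c0 c1 : ℤ) (M k0 : ℕ) (hidx : 0 < idx)
    (hchk : ((List.range k0).all fun k => k == 0 || ok idx P A C TH t dd a0 a1 c0 c1 M k) = true)
    (hbig : ∀ j : ℤ, (P : ℤ) < k0 * (1 + (a0 + a1 * j) ^ 2 + (c0 + c1 * j) ^ 2 + t * (dd * j) ^ 2))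
    {k : ℕ} {j : ℤ} (hk : k ≠ 0) (hP : k ∣ P) (hdd : 0 < dd)
    (h1 : (A : ℤ) ∣ idx * k * (a0 + a1 * j)) (h2 : (C : ℤ) ∣ idx * k * (c0 + c1 * j))
    (h3 : (TH : ℤ) ∣ (idx * k) * (dd * j))
    (hs : (k : ℤ) * (1 + (a0 + a1 * j) ^ 2 + (c0 + c1 * j) ^ 2 + t * (dd * j) ^ 2) ≤ P) : False := by
  have hkk : k < k0 := by
    by_contra hcon
    have h5 := hbig j
    have h6 : (k0 : ℤ) ≤ k := by exact_mod_cast not_lt.1 hcon
    have h7 : 0 ≤ (1 + (a0 + a1 * j) ^ 2 + (c0 + c1 * j) ^ 2 + (t : ℤ) * (dd * j) ^ 2) := by positivity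
    nlinarith
  have h8 := List.all_eq_true.1 hchk k (List.mem_range.2 hkk)
  rw [Bool.or_eq_true] at h8
  rcases h8 with h8 | h8
  · exact hk (by simpa using h8)
  unfold ok at h8
  rw [Bool.or_eq_true] at h8
  rcases h8 with h8 | h8
  · rw [Bool.not_eq_true', beq_eq_false_iff_ne] at h8
    exact h8 (Nat.mod_eq_zero_of_dvd hP)
  rw [Bool.and_eq_true, decide_eq_true_iff] at h8
  obtain ⟨h9, h10⟩ := h8
  have hK : 0 < idx * k := Nat.mul_pos hidx (Nat.pos_of_ne_zero hk)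
  obtain ⟨m, hm⟩ := dvd_of TH (idx * k) hK (dd * j) (by push_cast; exact h3)
  generalize TH / Nat.gcd TH (idx * k) = s at *
  have hb : (k : ℤ) * (t * (s * m) ^ 2) ≤ P := by
    rw [← hm]
    refine le_trans ?_ hs
    refine mul_le_mul_of_nonneg_left ?_ (by positivity)
    nlinarith [sq_nonneg (a0 + a1 * j), sq_nonneg (c0 + c1 * j)]
  have h9' : (P : ℤ) < ((M + 1 : ℕ) : ℤ) ^ 2 * (s : ℤ) ^ 2 * t * k := by exact_mod_cast h9
  have hm2 : m ^ 2 < ((M + 1 : ℕ) : ℤ) ^ 2 := by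
    by_contra hcon
    rw [not_lt] at hcon
    have h11 : ((M + 1 : ℕ) : ℤ) ^ 2 * ((s : ℤ) ^ 2 * t * k) ≤ m ^ 2 * ((s : ℤ) ^ 2 * t * k) :=
      mul_le_mul_of_nonneg_right hcon (by positivity)
    nlinarith
  have hm3 := abs_lt_of_sq_lt_sq hm2 (by positivity)
  rw [abs_lt] at hm3
  push_cast at hm3
  obtain ⟨i, hi⟩ : ∃ i : ℕ, (i : ℤ) = m + M := ⟨(m + M).toNat, Int.toNat_of_nonneg (by omega)⟩
  have hmi : m = (i : ℤ) - M := by omega
  have h12 := List.all_eq_true.1 h10 i (List.mem_range.2 (by omega))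
  rw [Bool.not_eq_true', ← hmi, ← hm] at h12
  have hdd' : (dd : ℤ) ≠ 0 := by exact_mod_cast hdd.ne'
  have hj : (dd * j : ℤ) / dd = j := Int.mul_ediv_cancel_left j hdd'
  have h13 : bad idx P A C TH t dd a0 a1 c0 c1 k (dd * j) = true := by
    unfold bad
    rw [hj, Bool.and_eq_true, Bool.and_eq_true, Bool.and_eq_true, beq_iff_eq, beq_iff_eq, beq_iff_eq,
      decide_eq_true_iff]
    exact ⟨Int.mul_emod_right _ _, Int.emod_eq_zero_of_dvd h1, Int.emod_eq_zero_of_dvd h2, hs⟩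
  rw [h13] at h12
  exact absurd h12 (by decide)

/-! ### `q = 5` -/

theorem chk5 : ((List.range 33).all fun k => k == 0 ||
    ok 2347506 15257812500000 992250 961000 244109376 150 104 (-488187) (-177) (-488188) (-73) 28 k) = true := by
  decide +kernel

theorem no_sol5 (K : ℕ) (a c : ℤ) (hK : 2347506 ∣ K) (hN : K ∣ 35817806390625000000) (h1 : (992250 : ℤ) ∣ K * a)
    (h2 : (961000 : ℤ) ∣ K * c) (h3 : (244109376 : ℤ) ∣ K * (1 - a + c))
    (hs : (K : ℤ) * (1 + a ^ 2 + c ^ 2 + 150 * (1 - a + c) ^ 2) ≤ 35817806390625000000)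
    (he : 177 * c - 73 * a = -50771625) : False := by
  obtain ⟨k, rfl⟩ := hK
  have hk0 : k ≠ 0 := by
    rintro rfl
    rw [mul_zero] at hN
    exact absurd (Nat.eq_zero_of_zero_dvd hN) (by norm_num)
  obtain ⟨j, hj⟩ : ∃ j : ℤ, 1 - a + c = 104 * j := by
    have : (104 : ℤ) ∣ 1 - a + c := by omega
    exact this
  have ha : a = -488187 + -177 * j := by omega
  have hc : c = -488188 + -73 * j := by omega
  have hP : k ∣ 15257812500000 := by
    have h4 : 2347506 * k ∣ 2347506 * 15257812500000 := by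
      refine hN.trans (by norm_num)
    exact Nat.dvd_of_mul_dvd_mul_left (by norm_num) h4
  rw [hj] at h3 hs
  rw [ha] at h1 hs
  rw [hc] at h2 hs
  push_cast at h1 h2 h3 hs
  refine no_sol_gen 2347506 15257812500000 992250 961000 244109376 150 104 (-488187) (-177) (-488188) (-73) 28 33
    (by norm_num) chk5 (fun i => ?_) hk0 hP (by norm_num) h1 h2 h3 ?_
  · push_cast
    nlinarith [sq_nonneg (i : ℤ), sq_nonneg (i + 73)]
  · push_cast
    nlinarith

/-! ### `q = 17` -/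

theorem chk17 : ((List.range 129).all fun k => k == 0 ||
    ok 125565137334 225009341911127804179968 59318078274 59269803136 582622188954624 20808 1160 (-29646965439)
      (-5493) (-29646965440) (-4333) 96 k) = true := by
  decide +kernel

theorem no_sol17 (K : ℕ) (a c : ℤ) (hK : 125565137334 ∣ K) (hN : K ∣ 28253328918503724754683541171725312)
    (h1 : (59318078274 : ℤ) ∣ K * a) (h2 : (59269803136 : ℤ) ∣ K * c) (h3 : (582622188954624 : ℤ) ∣ K * (1 - a + c))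
    (hs : (K : ℤ) * (1 + a ^ 2 + c ^ 2 + 20808 * (1 - a + c) ^ 2) ≤ 28253328918503724754683541171725312)
    (he : 5493 * c - 4333 * a = -34390479914733) : False := by
  obtain ⟨k, rfl⟩ := hK
  have hk0 : k ≠ 0 := by
    rintro rfl
    rw [mul_zero] at hN
    exact absurd (Nat.eq_zero_of_zero_dvd hN) (by norm_num)
  obtain ⟨j, hj⟩ : ∃ j : ℤ, 1 - a + c = 1160 * j := by
    have : (1160 : ℤ) ∣ 1 - a + c := by omega
    exact this
  have ha : a = -29646965439 + -5493 * j := by omega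
  have hc : c = -29646965440 + -4333 * j := by omega
  have hP : k ∣ 225009341911127804179968 := by
    have h4 : 125565137334 * k ∣ 125565137334 * 225009341911127804179968 := by
      refine hN.trans (by norm_num)
    exact Nat.dvd_of_mul_dvd_mul_left (by norm_num) h4
  rw [hj] at h3 hs
  rw [ha] at h1 hs
  rw [hc] at h2 hs
  push_cast at h1 h2 h3 hs
  refine no_sol_gen 125565137334 225009341911127804179968 59318078274 59269803136 582622188954624 20808 1160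
    (-29646965439) (-5493) (-29646965440) (-4333) 96 129
    (by norm_num) chk17 (fun i => ?_) hk0 hP (by norm_num) h1 h2 h3 ?_
  · push_cast
    nlinarith [sq_nonneg (i : ℤ)]
  · push_cast
    nlinarith

end Cfsg.Agent.H190.TC.TDQ
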