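import Mathlib
import Cfsg.Agent.H190.TC.TDQ

/-!
# `³D₄(4)`, `³D₄(9)`, `³D₄(13)`: the arithmetic (S2452; helper190)
-/

set_option autoImplicit false

namespace Cfsg.Agent.H190.TC.TDR

/-- divisibility conditions on `θ` -/
def bad (idx P A C t dd th a0 a1 c0 c1 : ℤ) (k θ : ℤ) : Bool :=
  (θ - th) % dd == 0 && ((idx * k * (a0 + a1 * ((θ - th) / dd))) % A == 0 &&
    ((idx * k * (c0 + c1 * ((θ - th) / dd))) % C == 0 &&
    decide (k * (1 + (a0 + a1 * ((θ - th) / dd)) ^ 2 + (c0 + c1 * ((θ - th) / dd)) ^ 2 + t * θ ^ 2) ≤ P)))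

/-- the check at `k` -/
def ok (idx P A C TH t dd : ℕ) (th a0 a1 c0 c1 : ℤ) (M k : ℕ) : Bool :=
  !(P % k == 0) || (decide (P < (M + 1) ^ 2 * (TH / Nat.gcd TH (idx * k)) ^ 2 * t * k) &&
    (List.range (2 * M + 1)).all fun i =>
      !(bad idx P A C t dd th a0 a1 c0 c1 k (((TH / Nat.gcd TH (idx * k) : ℕ) : ℤ) * ((i : ℤ) - M))))

/-- the search -/
theorem no_sol_gen (idx P A C TH t dd : ℕ) (th a0 a1 c0 c1 : ℤ) (M k0 : ℕ) (hidx : 0 < idx)
    (hchk : ((List.range k0).all fun k => k == 0 || ok idx P A C TH t dd th a0 a1 c0 c1 M k) = true)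
    (hbig : ∀ j : ℤ, (P : ℤ) < k0 * (1 + (a0 + a1 * j) ^ 2 + (c0 + c1 * j) ^ 2 + t * (th + dd * j) ^ 2))
    {k : ℕ} {j : ℤ} (hk : k ≠ 0) (hP : k ∣ P) (hdd : 0 < dd)
    (h1 : (A : ℤ) ∣ idx * k * (a0 + a1 * j)) (h2 : (C : ℤ) ∣ idx * k * (c0 + c1 * j))
    (h3 : (TH : ℤ) ∣ (idx * k) * (th + dd * j))
    (hs : (k : ℤ) * (1 + (a0 + a1 * j) ^ 2 + (c0 + c1 * j) ^ 2 + t * (th + dd * j) ^ 2) ≤ P) : False := by
  have hkk : k < k0 := by
    by_contra hcon
    have h5 := hbig j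
    have h6 : (k0 : ℤ) ≤ k := by exact_mod_cast not_lt.1 hcon
    have h7 : 0 ≤ (1 + (a0 + a1 * j) ^ 2 + (c0 + c1 * j) ^ 2 + (t : ℤ) * (th + dd * j) ^ 2) := by positivity
    nlinarith
  have h8 := List.all_eq_true.1 hchk k (List.mem_range.2 hkk)
  rw [Bool.or_eq_true] at h8
  rcases h8 with h8 | h8
  · exact hk (by simpa using h8)
  unfold ok at h8
  rw [Bool.or_eq_true] at h8
  rcases h8 with h8 | h8
  · rw [Bool.not_eq_true', beq_eq_false_iff_ne] at h8
    exact h8 (Nat.mod_eq_zero_of_dvd hP)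
  rw [Bool.and_eq_true, decide_eq_true_iff] at h8
  obtain ⟨h9, h10⟩ := h8
  have hK : 0 < idx * k := Nat.mul_pos hidx (Nat.pos_of_ne_zero hk)
  obtain ⟨m, hm⟩ := TDQ.dvd_of TH (idx * k) hK (th + dd * j) (by push_cast; exact h3)
  generalize TH / Nat.gcd TH (idx * k) = s at *
  have hb : (k : ℤ) * (t * (s * m) ^ 2) ≤ P := by
    rw [← hm]
    refine le_trans ?_ hs
    refine mul_le_mul_of_nonneg_left ?_ (by positivity)
    nlinarith [sq_nonneg (a0 + a1 * j), sq_nonneg (c0 + c1 * j)]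
  have h9' : (P : ℤ) < ((M + 1 : ℕ) : ℤ) ^ 2 * (s : ℤ) ^ 2 * t * k := by exact_mod_cast h9
  have hm2 : m ^ 2 < ((M + 1 : ℕ) : ℤ) ^ 2 := by
    by_contra hcon
    rw [not_lt] at hcon
    have h11 : ((M + 1 : ℕ) : ℤ) ^ 2 * ((s : ℤ) ^ 2 * t * k) ≤ m ^ 2 * ((s : ℤ) ^ 2 * t * k) :=
      mul_le_mul_of_nonneg_right hcon (by positivity)
    nlinarith
  have hm3 := abs_lt_of_sq_lt_sq hm2 (by positivity)
  rw [abs_lt] at hm3
  push_cast at hm3
  obtain ⟨i, hi⟩ : ∃ i : ℕ, (i : ℤ) = m + M := ⟨(m + M).toNat, Int.toNat_of_nonneg (by omega)⟩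
  have hmi : m = (i : ℤ) - M := by omega
  have h12 := List.all_eq_true.1 h10 i (List.mem_range.2 (by omega))
  rw [Bool.not_eq_true', ← hmi, ← hm] at h12
  have hdd' : (dd : ℤ) ≠ 0 := by exact_mod_cast hdd.ne'
  have hj0 : (th + dd * j - th : ℤ) = dd * j := by ring
  have hj : (th + dd * j - th : ℤ) / dd = j := by rw [hj0]; exact Int.mul_ediv_cancel_left j hdd'
  have h13 : bad idx P A C t dd th a0 a1 c0 c1 k (th + dd * j) = true := by
    unfold bad
    rw [hj, Bool.and_eq_true, Bool.and_eq_true, Bool.and_eq_true, beq_iff_eq, beq_iff_eq, beq_iff_eq,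
      decide_eq_true_iff, hj0]
    exact ⟨Int.mul_emod_right _ _, Int.emod_eq_zero_of_dvd h1, Int.emod_eq_zero_of_dvd h2, hs⟩
  rw [h13] at h12
  exact absurd h12 (by decide)

/-! ### `q = 4` -/

theorem chk4 : ((List.range 25).all fun k => k == 0 ||
    ok 328965 206108098560 135200 127008 16769025 60 34 17 (-65512) (-49) (-65496) (-15) 21 k) = true := by
  decide +kernel

theorem no_sol4 (K : ℕ) (a c : ℤ) (hK : 328965 ∣ K) (hN : K ∣ 67802350642790400) (h1 : (135200 : ℤ) ∣ K * a)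
    (h2 : (127008 : ℤ) ∣ K * c) (h3 : (16769025 : ℤ) ∣ K * (1 - a + c))
    (hs : (K : ℤ) * (1 + a ^ 2 + c ^ 2 + 60 * (1 - a + c) ^ 2) ≤ 67802350642790400)
    (he : 49 * c - 15 * a = -2226624) : False := by
  obtain ⟨k, rfl⟩ := hK
  have hk0 : k ≠ 0 := by
    rintro rfl
    rw [mul_zero] at hN
    exact absurd (Nat.eq_zero_of_zero_dvd hN) (by norm_num)
  obtain ⟨j, hj⟩ : ∃ j : ℤ, 1 - a + c = 17 + 34 * j := by
    have : (34 : ℤ) ∣ 1 - a + c - 17 := by omega
    obtain ⟨j, hj⟩ := this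
    exact ⟨j, by omega⟩
  have ha : a = -65512 + -49 * j := by omega
  have hc : c = -65496 + -15 * j := by omega
  have hP : k ∣ 206108098560 := by
    have h4 : 328965 * k ∣ 328965 * 206108098560 := by
      refine hN.trans (by norm_num)
    exact Nat.dvd_of_mul_dvd_mul_left (by norm_num) h4
  rw [hj] at h3 hs
  rw [ha] at h1 hs
  rw [hc] at h2 hs
  push_cast at h1 h2 h3 hs
  refine no_sol_gen 328965 206108098560 135200 127008 16769025 60 34 17 (-65512) (-49) (-65496) (-15) 21 25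
    (by norm_num) chk4 (fun i => ?_) hk0 hP (by norm_num) h1 h2 h3 ?_
  · push_cast
    nlinarith [sq_nonneg (i : ℤ), sq_nonneg (i + 59)]
  · push_cast
    nlinarith

/-! ### `q = 9` -/

theorem chk9 : ((List.range 65).all fun k => k == 0 ||
    ok 430532830 1200754822939701120 194242050 193179168 282428473600 1620 328 0 (-96854575) (-893) (-96854576) (-565) 51 k) = true := by
  decide +kernel

theorem no_sol9 (K : ℕ) (a c : ℤ) (hK : 430532830 ∣ K) (hN : K ∣ 516964372056378442547769600) (h1 : (194242050 : ℤ) ∣ K * a)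
    (h2 : (193179168 : ℤ) ∣ K * c) (h3 : (282428473600 : ℤ) ∣ K * (1 - a + c))
    (hs : (K : ℤ) * (1 + a ^ 2 + c ^ 2 + 1620 * (1 - a + c) ^ 2) ≤ 516964372056378442547769600)
    (he : 893 * c - 565 * a = -31768301493) : False := by
  obtain ⟨k, rfl⟩ := hK
  have hk0 : k ≠ 0 := by
    rintro rfl
    rw [mul_zero] at hN
    exact absurd (Nat.eq_zero_of_zero_dvd hN) (by norm_num)
  obtain ⟨j, hj⟩ : ∃ j : ℤ, 1 - a + c = 0 + 328 * j := by
    have : (328 : ℤ) ∣ 1 - a + c - 0 := by omega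
    obtain ⟨j, hj⟩ := this
    exact ⟨j, by omega⟩
  have ha : a = -96854575 + -893 * j := by omega
  have hc : c = -96854576 + -565 * j := by omega
  have hP : k ∣ 1200754822939701120 := by
    have h4 : 430532830 * k ∣ 430532830 * 1200754822939701120 := by
      refine hN.trans (by norm_num)
    exact Nat.dvd_of_mul_dvd_mul_left (by norm_num) h4
  rw [hj] at h3 hs
  rw [ha] at h1 hs
  rw [hc] at h2 hs
  push_cast at h1 h2 h3 hs
  refine no_sol_gen 430532830 1200754822939701120 194242050 193179168 282428473600 1620 328 0 (-96854575) (-893) (-96854576) (-565) 51 65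
    (by norm_num) chk9 (fun i => ?_) hk0 hP (by norm_num) h1 h2 h3 ?_
  · push_cast
    nlinarith [sq_nonneg (i : ℤ), sq_nonneg (i + 499)]
  · push_cast
    nlinarith

/-! ### `q = 13` -/

theorem chk13 : ((List.range 97).all fun k => k == 0 ||
    ok 11420629962 1349464603846467247776 5307077594 5297423976 23298075468864 7098 680 0 (-2651123195) (-2537) (-2651123196) (-1857) 73 k) = true := by
  decide +kernel

theorem no_sol13 (K : ℕ) (a c : ℤ) (hK : 11420629962 ∣ K) (hN : K ∣ 15411735887347424297802263464512) (h1 : (5307077594 : ℤ) ∣ K * a)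
    (h2 : (5297423976 : ℤ) ∣ K * c) (h3 : (23298075468864 : ℤ) ∣ K * (1 - a + c))
    (hs : (K : ℤ) * (1 + a ^ 2 + c ^ 2 + 7098 * (1 - a + c) ^ 2) ≤ 15411735887347424297802263464512)
    (he : 2537 * c - 1857 * a = -1802763775137) : False := by
  obtain ⟨k, rfl⟩ := hK
  have hk0 : k ≠ 0 := by
    rintro rfl
    rw [mul_zero] at hN
    exact absurd (Nat.eq_zero_of_zero_dvd hN) (by norm_num)
  obtain ⟨j, hj⟩ : ∃ j : ℤ, 1 - a + c = 0 + 680 * j := by
    have : (680 : ℤ) ∣ 1 - a + c - 0 := by omega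
    obtain ⟨j, hj⟩ := this
    exact ⟨j, by omega⟩
  have ha : a = -2651123195 + -2537 * j := by omega
  have hc : c = -2651123196 + -1857 * j := by omega
  have hP : k ∣ 1349464603846467247776 := by
    have h4 : 11420629962 * k ∣ 11420629962 * 1349464603846467247776 := by
      refine hN.trans (by norm_num)
    exact Nat.dvd_of_mul_dvd_mul_left (by norm_num) h4
  rw [hj] at h3 hs
  rw [ha] at h1 hs
  rw [hc] at h2 hs
  push_cast at h1 h2 h3 hs
  refine no_sol_gen 11420629962 1349464603846467247776 5307077594 5297423976 23298075468864 7098 680 0 (-2651123195) (-2537) (-2651123196) (-1857) 73 97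
    (by norm_num) chk13 (fun i => ?_) hk0 hP (by norm_num) h1 h2 h3 ?_
  · push_cast
    nlinarith [sq_nonneg (i : ℤ), sq_nonneg (i + 499)]
  · push_cast
    nlinarith

end Cfsg.Agent.H190.TC.TDR
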