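import Cfsg.Agent.H190.TC.Q4Char
import Cfsg.Agent.H190.TC.TDR
import Cfsg.Agent.H869.TD.Idx
import Cfsg.Agent.H541.PRegTD4
import Cfsg.Agent.H210.TC.Row

/-!
# S2452: `³D₄(4)` (after helper90's `³D₄(3)`; helper190)
-/

set_option autoImplicit false

namespace Cfsg.Agent.H190.TC.Q4

open Cfsg Cfsg.Lie Subgroup
open Cfsg.Agent.H65.Ore Cfsg.Agent.H90.TC
open Cfsg.Agent.H210.TC (Row3)

theorem pp : IsPrimePow 4 := by
  have h := (by norm_num : Nat.Prime 2).isPrimePow.pow (k := 2) (by norm_num)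
  norm_num at h
  exact h

theorem card_g {K : Type} [Field K] [Fintype K] (hK : Fintype.card K = 4 ^ 3) :
    Nat.card ↥(twistedD4 K 4) = 67802350642790400 := by
  rw [Cfsg.Agent.S1067.result pp hK]
  norm_num

/-- **`³D₄(4)`**: every nonidentity element is a product of two conjugates of an element of order 241. -/
theorem row3 {K : Type} [Field K] [Fintype K] (hK : Fintype.card K = 4 ^ 3) : Row3 ↥(twistedD4 K 4) := by
  classical
  have hp : Nat.Prime 2 := by norm_num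
  have hq : IsPrimePow 4 := pp
  have hr : Nat.Prime 241 := by norm_num
  have : Fact (Nat.Prime 2) := ⟨hp⟩
  have hc : CharP K 2 := charP_of_card_eq_prime_pow (f := 6) (by rw [hK]; norm_num)
  have hfin := H869.TD.finite_g hq hK
  have hL : IsLieTypeChar 2 ↥(twistedD4 K 4) := H869.TD.isLie hq hK
  have hs : IsSimpleGroup ↥(twistedD4 K 4) := H400.LieSimple.isSimple_of_lie hL
  obtain ⟨T, hcyc, hT, hC, hN⟩ := H541.PRegTD4.tor12 (F := K) (q := 4) hq hK (by
    rw [card_g hK]; norm_num)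
  have hT' : Nat.card ↥T = 241 := by rw [hT]; norm_num
  have hC' : ∀ y ∈ T, y ≠ 1 → centralizer {y} = T := fun y hy hy1 => hC y hy (by rw [pow_one]; exact hy1)
  obtain ⟨P, hP, hPT, hCP, hrel, hNP, hconj⟩ := PkOf.setup_of (w := 4) (e := 4) (N := 67802350642790400) hr (card_g hK)
    (by norm_num) hT' hC' (by norm_num at hN ⊢; exact hN) (by norm_num) (by norm_num)
  have hpk := PkOf.pk_of hr (by norm_num) P hP hCP hrel (t := 60) (by norm_num) (by norm_num) hconj
  obtain ⟨⟨x, hxT⟩, hgen⟩ := hcyc.exists_generator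
  have hx : orderOf x = 241 := by
    have h1 := orderOf_eq_card_of_forall_mem_zpowers hgen
    rw [Subgroup.orderOf_mk, hT'] at h1
    exact h1
  have hcx : Nat.card (centralizer ({x} : Set ↥(twistedD4 K 4))) = 241 := by
    rw [hC' x hxT (by rintro rfl; rw [orderOf_one] at hx; norm_num at hx), hT']
  have hreal : IsConj x x⁻¹ := PkOf.conj_inv_of hr (by norm_num) P hP hCP hNP (by norm_num) hconj hx
  have hst : ∃ χ : IrrCharacter ↥(twistedD4 K 4), charDegree (χ : ↥(twistedD4 K 4) → ℂ) = 16777216 := by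
    obtain ⟨χ, hχ, hχ1, -⟩ := H330.GowSt.exists_st_of_hasSplit
      (H330.Gow.hasSplit_of_ab (H716.SplitAb.hasSplitAb_of_lie hp hL))
    refine ⟨⟨χ, hχ⟩, ?_⟩
    have hf := H869.TD.factorization hq hK (p := 2) (f := 2) (by norm_num)
    rw [hf] at hχ1
    show charDegree χ = 16777216
    rw [Blocks.Basic.charDegree_of_eq hχ1]
    norm_num
  have h6 : ∀ χ : IrrCharacter ↥(twistedD4 K 4), charDegree (χ : ↥(twistedD4 K 4) → ℂ) ≠ 4096 := fun χ h =>
    H869.TD.no_q6 hq hK χ (by rw [h]; norm_num)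
  have h3x : ¬ 2 ∣ Nat.card (centralizer ({x} : Set ↥(twistedD4 K 4))) := by rw [hcx]; norm_num
  refine Row3.of_sq (x := x) (by rw [hx]; norm_num) (by rw [hx]; norm_num) fun g hg => ?_
  by_cases h3 : 2 ∣ orderOf g
  · rcases prd_or_bad (card_g hK) hpk hreal hx hcx hst h6 h3 with h1 | ⟨a, c, h1⟩
    · exact h1
    · have h4 := H869.TD.dvd_index hq hK h3
      exact (TDR.no_sol4 _ a c (by norm_num at h4; exact h4) h1.dvd h1.h1 h1.h2 h1.h3 h1.hs h1.he).elim
  · obtain ⟨u, v, h1⟩ := H330.Gow.gow hp hL h3x h3x hg h3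
    exact ⟨u, v, h1.symm⟩

/-- the body of `Six` -/
theorem six {K : Type} [Field K] [Fintype K] (hK : Fintype.card K = 4 ^ 3) :
    ∃ x y : ↥(twistedD4 K 4), Nat.Coprime (orderOf x) 6 ∧ Nat.Coprime (orderOf y) 6 ∧
      ∀ g : ↥(twistedD4 K 4), g ≠ 1 → ∃ u v : ↥(twistedD4 K 4), g = (u * x * u⁻¹) * (v * y * v⁻¹) :=
  (row3 hK).s2464

end Cfsg.Agent.H190.TC.Q4
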