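import Mathlib

/-!
# Products of two classes of `³D₄(4)`: the degrees of the principal 241-block (after helper90's D43Sieve; helper190)
-/

set_option autoImplicit false

namespace Cfsg.Agent.H190.TC.Q4

def cand : List ℕ := [1, 240, 4096, 14700, 34944, 57600, 68445, 127008, 135200, 250880, 298116, 491400, 983040, 1168128, 8386560, 16777216, 60211200, 71547840, 143130624, 235929600]

theorem chk1 : ((List.range 25).all fun i => (List.range 5).all fun j => (List.range 3).all fun k => (List.range 3).all fun l => (List.range 3).all fun m => (List.range 2).all fun n =>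
      let n := 2 ^ i * (3 ^ j * (5 ^ k * (7 ^ l * (13 ^ m * (241 ^ n)))))
      !(Nat.beq (n % 241) 1 || Nat.beq (n % 241) 240) || !(Nat.ble (n * n) 67802350642790400) ||
        (cand.any fun c => Nat.beq c n)) = true := by
  decide +kernel

theorem ordN_eq : (67802350642790400 : ℕ) = 2 ^ 24 * (3 ^ 4 * (5 ^ 2 * (7 ^ 2 * (13 ^ 2 * (241 ^ 1))))) := by norm_num

theorem mem_cand {A : ℕ} (hA : A ∣ 67802350642790400) (h : A % 241 = 1 ∨ A % 241 = 240)
    (hsq : A * A ≤ 67802350642790400) : A ∈ cand := by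
  rw [ordN_eq] at hA
  obtain ⟨a, r1, ha, hr1, rfl⟩ := (Nat.dvd_mul).1 hA
  obtain ⟨b, r2, hb, hr2, rfl⟩ := (Nat.dvd_mul).1 hr1
  obtain ⟨c, r3, hc, hr3, rfl⟩ := (Nat.dvd_mul).1 hr2
  obtain ⟨d, r4, hd, hr4, rfl⟩ := (Nat.dvd_mul).1 hr3
  obtain ⟨e, f, he, hf, rfl⟩ := (Nat.dvd_mul).1 hr4
  obtain ⟨i, hi', rfl⟩ := (Nat.dvd_prime_pow (by norm_num : Nat.Prime 2)).1 ha
  obtain ⟨j, hj', rfl⟩ := (Nat.dvd_prime_pow (by norm_num : Nat.Prime 3)).1 hb
  obtain ⟨k, hk', rfl⟩ := (Nat.dvd_prime_pow (by norm_num : Nat.Prime 5)).1 hc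
  obtain ⟨l, hl', rfl⟩ := (Nat.dvd_prime_pow (by norm_num : Nat.Prime 7)).1 hd
  obtain ⟨m, hm', rfl⟩ := (Nat.dvd_prime_pow (by norm_num : Nat.Prime 13)).1 he
  obtain ⟨n, hn', rfl⟩ := (Nat.dvd_prime_pow (by norm_num : Nat.Prime 241)).1 hf
  have h1 := chk1
  simp only [List.all_eq_true, List.mem_range] at h1
  have h2 := h1 i (by omega) j (by omega) k (by omega) l (by omega) m (by omega) n (by omega)
  simp only [Bool.or_eq_true, Bool.not_eq_true', List.any_eq_true] at h2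
  rcases h2 with (h2 | h2) | ⟨c, hc, h2⟩
  · exfalso
    rw [Bool.or_eq_false_iff] at h2
    rcases h with h | h
    · rw [h] at h2
      exact absurd h2.1 (by decide)
    · rw [h] at h2
      exact absurd h2.2 (by decide)
  · exfalso
    have h3 := Nat.ble_eq_true_of_le hsq
    rw [h3] at h2
    exact Bool.noConfusion h2
  · rw [Nat.eq_of_beq_eq_true h2] at hc
    exact hc

/-- the sign -/
def sg (A : ℕ) : ℤ := if A % 241 = 1 then 1 else -1

/-- the sum -/
def sm (A B : ℕ) : ℕ := (16777217 + sg A * (A : ℤ) + sg B * (B : ℤ)).natAbs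

theorem chk2 : cand.all (fun A => cand.all fun B =>
    !(Nat.beq (67802350642790400 % (sm A B)) 0) || !(Nat.ble (60 * (sm A B * sm A B)) 67802350642790400) ||
      (Nat.beq (sm A B) 16769025 && ((Nat.beq A 127008 && Nat.beq B 135200) || (Nat.beq A 135200 && Nat.beq B 127008) ||
        (Nat.beq A 4096 && Nat.beq B 4096)))) = true := by
  decide +kernel

/-- **The sieve.** -/
theorem sieve {A B D : ℕ} {ea eb d : ℤ} (hea : ea = 1 ∨ ea = -1) (heb : eb = 1 ∨ eb = -1) (hd : d = 1 ∨ d = -1)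
    (hA : A ∣ 67802350642790400) (hB : B ∣ 67802350642790400) (hD : D ∣ 67802350642790400)
    (h1 : (241 : ℤ) ∣ (A : ℤ) - ea) (h2 : (241 : ℤ) ∣ (B : ℤ) - eb)
    (hrel : 1 + 16777216 + ea * A + eb * B = d * (D : ℤ)) (hAs : A * A ≤ 67802350642790400) (hBs : B * B ≤ 67802350642790400)
    (hDs : 60 * (D * D) ≤ 67802350642790400) :
    D = 16769025 ∧ ((A = 127008 ∧ B = 135200) ∨ (A = 135200 ∧ B = 127008) ∨ (A = 4096 ∧ B = 4096)) := by
  have key : ∀ {C : ℕ} {e : ℤ}, (e = 1 ∨ e = -1) → (241 : ℤ) ∣ (C : ℤ) - e →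
      (C % 241 = 1 ∨ C % 241 = 240) ∧ sg C = e := by
    intro C e he h
    unfold sg
    rcases he with rfl | rfl
    · have h3 : C % 241 = 1 := by omega
      exact ⟨Or.inl h3, if_pos h3⟩
    · have h3 : C % 241 = 240 := by omega
      exact ⟨Or.inr h3, if_neg (by omega)⟩
  obtain ⟨ka, ea'⟩ := key hea h1
  obtain ⟨kb, eb'⟩ := key heb h2
  have mA := mem_cand hA ka hAs
  have mB := mem_cand hB kb hBs
  have hs : sm A B = D := by
    unfold sm
    rw [ea', eb', show (16777217 : ℤ) + ea * A + eb * B = d * D from by rw [← hrel]; ring]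
    rcases hd with rfl | rfl
    · rw [one_mul, Int.natAbs_natCast]
    · rw [neg_one_mul, Int.natAbs_neg, Int.natAbs_natCast]
  have h3 := chk2
  simp only [List.all_eq_true] at h3
  have h4 := h3 A mA B mB
  rw [hs] at h4
  simp only [Bool.or_eq_true, Bool.not_eq_true', Bool.and_eq_true] at h4
  rcases h4 with (h4 | h4) | ⟨h4, h5⟩
  · exfalso
    rw [Nat.mod_eq_zero_of_dvd hD] at h4
    exact absurd h4 (by decide)
  · exfalso
    rw [Nat.ble_eq_true_of_le hDs] at h4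
    exact Bool.noConfusion h4
  · refine ⟨Nat.eq_of_beq_eq_true h4, ?_⟩
    rcases h5 with (⟨h5, h6⟩ | ⟨h5, h6⟩) | ⟨h5, h6⟩
    · exact Or.inl ⟨Nat.eq_of_beq_eq_true h5, Nat.eq_of_beq_eq_true h6⟩
    · exact Or.inr (Or.inl ⟨Nat.eq_of_beq_eq_true h5, Nat.eq_of_beq_eq_true h6⟩)
    · exact Or.inr (Or.inr ⟨Nat.eq_of_beq_eq_true h5, Nat.eq_of_beq_eq_true h6⟩)

end Cfsg.Agent.H190.TC.Q4
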