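import Cfsg.Agent.H81.DP.BtTD4
import Cfsg.Agent.H330.Gow
import Cfsg.Agent.H732.VZ.Exc
import Cfsg.Agent.S0191

/-!
# `³D₄(3)` (S2464; helper190)

* `card_g` : the order;
* `dvd_index` : the size of a conjugacy class of `3`-singular elements is divisible by `26572` (Borel-Tits);
* `ne_pow` : an irreducible character of a group of Lie type in characteristic `p` whose degree is a power of `p` is `1`
  or the Steinberg character;
* `no_729` : no irreducible character of degree `729`;
* `no_sol` : the arithmetic of the class `x` of order `73`.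
-/

set_option autoImplicit false

open Cfsg Subgroup

namespace Cfsg.Agent.H190.TC

open Cfsg.Lie Cfsg.Agent.Characters

section grp

variable {K : Type} [Field K] [Fintype K] (hK : Fintype.card K = 27)

include hK

theorem card_g : Nat.card ↥(twistedD4 K 3) = 20560831566912 := by
  have h := S1067.result (K := K) (q := 3) (Nat.prime_three.isPrimePow) (by rw [hK]; norm_num)
  rw [h]
  norm_num

theorem finite_g : Finite ↥(twistedD4 K 3) := Nat.finite_of_card_ne_zero (by rw [card_g hK]; norm_num)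

/-- **Borel-Tits**: the order of the centralizer of a `3`-singular element. -/
theorem card_cent {g : ↥(twistedD4 K 3)} (hg : 3 ∣ orderOf g) :
    Nat.card (centralizer ({g} : Set ↥(twistedD4 K 3))) ∣ 773778096 ∨
      Nat.card (centralizer ({g} : Set ↥(twistedD4 K 3))) ∣ 110539728 := by
  have : Fact (Nat.Prime 3) := ⟨Nat.prime_three⟩
  have hfin := finite_g hK
  have hch : CharP K 3 := charP_of_card_eq_prime_pow (f := 3) (by rw [hK]; norm_num)
  have ho : 0 < orderOf g := orderOf_pos g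
  obtain ⟨n, hn⟩ := hg
  have hn0 : n ≠ 0 := by
    rintro rfl
    omega
  have hu : orderOf (g ^ n) = 3 := by
    rw [orderOf_pow_of_dvd hn0 (by rw [hn]; exact dvd_mul_left _ _), hn, Nat.mul_div_cancel _ (Nat.pos_of_ne_zero hn0)]
  obtain ⟨Q, -, hQ, hc⟩ := H81.DP.bt_td4 (K := K) (q := 3) (r := 3) (Nat.prime_three.isPrimePow) (by rw [hK]; norm_num)
    (V := zpowers (g ^ n)) (IsPGroup.of_card (n := 1) (by rw [Nat.card_zpowers, hu, pow_one])) (by
      rw [Ne, zpowers_eq_bot]
      intro h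
      rw [h, orderOf_one] at hu
      omega)
  have hle : centralizer ({g} : Set ↥(twistedD4 K 3)) ≤ Q := by
    refine le_trans ?_ hQ
    refine le_trans ?_ (centralizer_le_normalizer _)
    intro c hc
    rw [mem_centralizer_singleton_iff] at hc
    rw [mem_centralizer_iff]
    intro y hy
    obtain ⟨k, rfl⟩ := mem_zpowers_iff.1 hy
    have h1 : Commute c g := hc
    exact ((h1.pow_right n).zpow_right k).eq.symm
  have h2 := card_dvd_of_le hle
  rcases hc with hc | hc
  · left
    rw [hc] at h2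
    norm_num at h2
    exact h2
  · right
    rw [hc] at h2
    norm_num at h2
    exact h2

theorem dvd_index {g : ↥(twistedD4 K 3)} (hg : 3 ∣ orderOf g) :
    26572 ∣ (centralizer ({g} : Set ↥(twistedD4 K 3))).index := by
  have h1 := card_cent hK hg
  have h2 := (centralizer ({g} : Set ↥(twistedD4 K 3))).card_mul_index
  rw [card_g hK] at h2
  generalize Nat.card (centralizer ({g} : Set ↥(twistedD4 K 3))) = c at *
  generalize (centralizer ({g} : Set ↥(twistedD4 K 3))).index = i at *
  have hc0 : 0 < c := by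
    rcases Nat.eq_zero_or_pos c with h | h
    · rw [h, zero_mul] at h2
      omega
    · exact h
  rcases h1 with ⟨m, hm⟩ | ⟨m, hm⟩
  · refine ⟨m, Nat.eq_of_mul_eq_mul_left hc0 ?_⟩
    rw [h2, mul_left_comm, ← hm]
    norm_num
  · refine ⟨7 * m, Nat.eq_of_mul_eq_mul_left hc0 ?_⟩
    rw [h2, mul_left_comm, mul_left_comm c 7 m, ← hm]
    norm_num

end grp

/-! ### No irreducible character of degree `729` -/

open Cfsg.Agent in
/-- An irreducible character of a nonabelian simple group vanishes somewhere. -/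
theorem exists_zero {G : Type*} [Group G] [Finite G] (χ : IrrCharacter G) (h : 1 < charDegree (χ : G → ℂ)) :
    ∃ g : G, (χ : G → ℂ) g = 0 := by
  obtain ⟨n, ρ, hρ, hχ⟩ := χ.2
  have h1 : ((charDegree (χ : G → ℂ) : ℕ) : ℂ) = (χ : G → ℂ) 1 := (Blocks.Knorr.charDegree_eq χ.2).symm
  rw [← hχ, Representation.char_one] at h1
  have h2 : 1 < Module.finrank ℂ (Fin n → ℂ) := by
    have h3 : charDegree ρ.character = Module.finrank ℂ (Fin n → ℂ) := by exact_mod_cast h1
    rw [hχ] at h3
    omega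
  obtain ⟨g, hg⟩ := S0191.result ρ h2
  exact ⟨g, by rw [← hχ]; exact hg⟩

open Cfsg.Agent in
/-- **Degrees which are powers of `p`.** -/
theorem ne_pow {G : Type*} [Group G] [Finite G] {p : ℕ} (hp : p.Prime) (hG : IsLieTypeChar p G) {z : G} (hz1 : z ≠ 1)
    (hz : ¬ p ∣ (centralizer ({z} : Set G)).index) (χ : IrrCharacter G) {k : ℕ} (hd : charDegree (χ : G → ℂ) = p ^ k)
    (hk : k ≠ 0) : k = (Nat.card G).factorization p := by
  classical
  have : Fact p.Prime := ⟨hp⟩
  have : IsSimpleGroup G := H400.LieSimple.isSimple_of_lie hG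
  have hSA := H716.SplitAb.hasSplitAb_of_lie hp hG
  have hS := H330.Gow.hasSplit_of_ab hSA
  have hL := H330.Gow.locChar_of_lie hG
  have hcen : center G = ⊥ := H400.LieLocal.center_eq_bot hS
  have hperf : commutator G = ⊤ := H330.Gow.perfect_of_split hS
  have hna : ¬ IsMulCommutative G := by
    intro h
    obtain ⟨a, b, hab⟩ := H400.LieLocal.exists_noncomm hcen
    exact hab (h.is_comm.comm a b)
  have : Fintype (IrrCharacter G) := @Fintype.ofFinite _ S0909.finite_irr
  obtain ⟨M, hM⟩ := Blocks.ExistsModular.exists_isPModular hp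
  have hMp := Blocks.Local.isPrime_of_isPModular hM
  have hdvd := H330.Gow.dvd_card hS
  obtain ⟨ψ, hψ, hψ1, hψv⟩ := H330.GowSt.exists_st_of_hasSplit hS
  let st : IrrCharacter G := ⟨ψ, hψ⟩
  have hdeg : charDegree ψ = p ^ (Nat.card G).factorization p := Blocks.Basic.charDegree_of_eq hψ1
  have hst : ¬ p ∣ Nat.card G / charDegree (st : G → ℂ) := by
    rw [H143.ChevBlocks.not_dvd_iff st.2]
    show _ ≤ (charDegree ψ).factorization p
    rw [hdeg, hp.factorization_pow]
    simp
  have huniq : ∀ θ : IrrCharacter G, ¬ p ∣ Nat.card G / charDegree (θ : G → ℂ) → θ = st := fun θ hθ =>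
    H330.GowOne.unique_of_hasSplitAb hSA hperf θ st hθ hst
  by_contra hcon
  have hne : χ ≠ st := by
    rintro rfl
    apply hcon
    have h1 : p ^ k = p ^ (Nat.card G).factorization p := hd.symm.trans hdeg
    exact Nat.pow_right_injective hp.two_le h1
  have h1 := H330.GowBlock.mem_principal hM hdvd hL hcen st hst huniq χ hne z
  have hcop : Nat.Coprime (centralizer ({z} : Set G)).index (charDegree (χ : G → ℂ)) := by
    rw [hd]
    exact (Nat.Coprime.pow_left k ((Nat.Prime.coprime_iff_not_dvd hp).2 hz)).symm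
  obtain ⟨x, hx⟩ := exists_zero χ (by rw [hd]; exact Nat.one_lt_pow hk hp.one_lt)
  have h0 := H732.VZ.eq_zero_of_coprime hna χ hx hz1 hcop
  have h2 : centralChar (χ : G → ℂ) z = 0 := by
    unfold centralChar
    rw [h0, mul_zero, zero_div]
  have h3 : MemLocalIdeal M (((centralizer ({z} : Set G)).index : ℕ) : ℂ) := by
    have h4 : MemLocalIdeal M (centralChar (fun _ : G => (1 : ℂ)) z - centralChar (χ : G → ℂ) z) := h1
    rw [h2, sub_zero] at h4
    unfold centralChar at h4
    rwa [mul_one, div_one] at h4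
  exact hz ((Blocks.Local.memLocalIdeal_natCast_iff hM _).1 h3)

/-- a central element of a Sylow subgroup -/
theorem exists_central {G : Type*} [Group G] [Finite G] {p : ℕ} (hp : p.Prime) (hd : p ∣ Nat.card G) :
    ∃ z : G, z ≠ 1 ∧ ¬ p ∣ (centralizer ({z} : Set G)).index := by
  have : Fact p.Prime := ⟨hp⟩
  obtain ⟨P⟩ : Nonempty (Sylow p G) := inferInstance
  have hP1 : 1 < Nat.card (P : Subgroup G) := by
    rw [P.card_eq_multiplicity]
    exact Nat.one_lt_pow (Nat.ne_of_gt (hp.factorization_pos_of_dvd Nat.card_pos.ne' hd)) hp.one_lt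
  have hnt : Nontrivial (P : Subgroup G) := Finite.one_lt_card_iff_nontrivial.1 hP1
  have h1 := P.isPGroup'.center_nontrivial
  obtain ⟨⟨c, hc⟩, hc1⟩ := exists_ne (1 : center (P : Subgroup G))
  refine ⟨c.1, fun h => hc1 (Subtype.ext (Subtype.ext h)), ?_⟩
  have hle : (P : Subgroup G) ≤ centralizer ({(c : G)} : Set G) := by
    intro g hg
    rw [mem_centralizer_singleton_iff]
    exact congrArg Subtype.val (mem_center_iff.1 hc ⟨g, hg⟩)
  intro h
  exact P.not_dvd_index (h.trans (index_dvd_of_le hle))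

open Cfsg.Agent in
theorem no_729 {K : Type} [Field K] [Fintype K] (hK : Fintype.card K = 27) (χ : IrrCharacter ↥(twistedD4 K 3)) :
    charDegree (χ : ↥(twistedD4 K 3) → ℂ) ≠ 729 := by
  intro h
  have : Fact (Nat.Prime 3) := ⟨Nat.prime_three⟩
  have hfin := finite_g hK
  have hch : CharP K 3 := charP_of_card_eq_prime_pow (f := 3) (by rw [hK]; norm_num)
  have hG : IsLieTypeChar 3 ↥(twistedD4 K 3) := Or.inr (Or.inr (Or.inr (Or.inr (Or.inr (Or.inr (Or.inr (Or.inl
    ⟨K, inferInstance, inferInstance, inferInstance, 3, Nat.prime_three.isPrimePow, Or.inr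
      ⟨by rw [hK]; norm_num, ⟨MulEquiv.refl _⟩⟩⟩)))))))
  obtain ⟨z, hz1, hz⟩ := exists_central (G := ↥(twistedD4 K 3)) Nat.prime_three (by rw [card_g hK]; norm_num)
  have h1 := ne_pow Nat.prime_three hG hz1 hz χ (k := 6) (by rw [h]; norm_num) (by norm_num)
  rw [card_g hK, show 20560831566912 = 3 ^ 12 * 38688832 by norm_num,
    Nat.factorization_mul (by norm_num) (by norm_num), Nat.factorization_pow] at h1
  simp [Nat.Prime.factorization_self Nat.prime_three,
    Nat.factorization_eq_zero_of_not_dvd (show ¬ 3 ∣ 38688832 by norm_num)] at h1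

/-! ### Arithmetic -/

/-- a solution -/
def bad (k j : ℤ) : Bool :=
  (26572 * k * (-4900 - 47 * j)) % 10584 == 0 && ((26572 * k * (-4901 - 7 * j)) % 9126 == 0 &&
    ((26572 * k * (40 * j)) % 529984 == 0 &&
      decide (k * (1 + (-4900 - 47 * j) ^ 2 + (-4901 - 7 * j) ^ 2 + 18 * (40 * j) ^ 2) ≤ 773778096)))

theorem chk : ((List.range 17).all fun k => k == 0 || (List.range 330).all fun i => !(bad (k : ℤ) ((i : ℤ) - 165))) =
    true := by
  decide +kernel

/-- **No solution** of the class equation. -/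
theorem no_sol (K : ℕ) (a c : ℤ) (hK : 26572 ∣ K) (hN : K ∣ 20560831566912) (h1 : (10584 : ℤ) ∣ K * a)
    (h2 : (9126 : ℤ) ∣ K * c) (h3 : (529984 : ℤ) ∣ K * (1 - a + c))
    (hs : (K : ℤ) * (1 + a ^ 2 + c ^ 2 + 18 * (1 - a + c) ^ 2) ≤ 20560831566912)
    (he : 3431 * c - 511 * a = -14311431) : False := by
  obtain ⟨k, rfl⟩ := hK
  have hk0 : k ≠ 0 := by
    rintro rfl
    rw [mul_zero] at hN
    exact absurd (Nat.eq_zero_of_zero_dvd hN) (by norm_num)
  obtain ⟨j, hj⟩ : ∃ j : ℤ, 1 - a + c = 40 * j := by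
    have : (40 : ℤ) ∣ 1 - a + c := by omega
    exact this
  have ha : a = -4900 - 47 * j := by omega
  have hc : c = -4901 - 7 * j := by omega
  rw [hj] at h3 hs
  rw [ha] at h1 hs
  rw [hc] at h2 hs
  have hk1 : (1 : ℤ) ≤ k := by exact_mod_cast Nat.one_le_iff_ne_zero.2 hk0
  have hs' : (k : ℤ) * (1 + (-4900 - 47 * j) ^ 2 + (-4901 - 7 * j) ^ 2 + 18 * (40 * j) ^ 2) ≤ 773778096 := by
    push_cast at hs
    nlinarith
  have hX : (1 + (-4900 - 47 * j) ^ 2 + (-4901 - 7 * j) ^ 2 + 18 * (40 * j) ^ 2) ≤ 773778096 := by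
    have h5 : 0 ≤ (1 + (-4900 - 47 * j) ^ 2 + (-4901 - 7 * j) ^ 2 + 18 * (40 * j) ^ 2) := by positivity
    nlinarith
  have hj1 : j < 165 := by nlinarith
  have hj2 : -165 < j := by nlinarith
  have hk17 : k < 17 := by
    by_contra hcon
    have h6 : (17 : ℤ) ≤ k := by exact_mod_cast not_lt.1 hcon
    have h7 : 45775000 ≤ (1 + (-4900 - 47 * j) ^ 2 + (-4901 - 7 * j) ^ 2 + 18 * (40 * j) ^ 2) := by nlinarith [sq_nonneg (j + 9), sq_nonneg (j + 8)]
    nlinarith
  obtain ⟨i, hi⟩ : ∃ i : ℕ, (i : ℤ) = j + 165 := ⟨(j + 165).toNat, Int.toNat_of_nonneg (by omega)⟩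
  have hji : j = (i : ℤ) - 165 := by omega
  rw [hji] at h1 h2 h3 hs'
  push_cast at h1 h2 h3
  have h8 := List.all_eq_true.1 chk k (List.mem_range.2 hk17)
  rw [Bool.or_eq_true] at h8
  rcases h8 with h8 | h8
  · exact hk0 (by simpa using h8)
  have h9 := List.all_eq_true.1 h8 i (List.mem_range.2 (by omega))
  rw [Bool.not_eq_true'] at h9
  have h10 : bad (k : ℤ) ((i : ℤ) - 165) = true := by
    unfold bad
    rw [Bool.and_eq_true, Bool.and_eq_true, Bool.and_eq_true, beq_iff_eq, beq_iff_eq, beq_iff_eq, decide_eq_true_iff]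
    exact ⟨Int.emod_eq_zero_of_dvd h1, Int.emod_eq_zero_of_dvd h2, Int.emod_eq_zero_of_dvd h3, hs'⟩
  rw [h10] at h9
  exact absurd h9 (by decide)

end Cfsg.Agent.H190.TC
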